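import Cfsg.Agent.H756.PU.Stmts

/-!
# S5258: coordinates in `UG K` (helper699)

* `exists_star_ne`, `exists_half` : `star ≠ id`, an element `w` with `w + star w = 1`;
* `mem_Q2_of_comm` : `C_S(Z₂) = Q₂`; `mem_VV_of_comm` : `C_{Q₂}(Y) = V`; commutators.
-/

set_option autoImplicit false

namespace Cfsg.Agent.H699.PU

open Cfsg Cfsg.FusionSystem Cfsg.Agent.H756.PU Cfsg.Agent.H756.PU.UG

universe u

variable {K : Type u} [Field K] [StarRing K]

section field

variable {p n : ℕ} (hK : HypK K p n)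

include hK

theorem two_le_q : 2 ≤ p ^ n := by
  calc 2 ≤ p := hK.pp.two_le
    _ = p ^ 1 := (pow_one p).symm
    _ ≤ p ^ n := Nat.pow_le_pow_right hK.pp.pos hK.hn

/-- `star` is not the identity -/
theorem exists_star_ne : ∃ t : K, star t ≠ t := by
  classical
  by_contra hcon
  push Not at hcon
  have := hK.fin
  have := Fintype.ofFinite K
  have hq := two_le_q hK
  have h1 : ∀ t : K, t ^ (p ^ n) = t := fun t => by rw [← hK.star_eq, hcon]
  have h2 : Fintype.card K = (p ^ n) ^ 2 := by rw [← Nat.card_eq_fintype_card, hK.card]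
  have h3 : (Polynomial.X ^ (p ^ n) - Polynomial.X : Polynomial K) ≠ 0 :=
    FiniteField.X_pow_card_sub_X_ne_zero K (by omega)
  have h4 : (Polynomial.X ^ (p ^ n) - Polynomial.X : Polynomial K).natDegree = p ^ n :=
    FiniteField.X_pow_card_sub_X_natDegree_eq K (by omega)
  have h5 : (Finset.univ : Finset K).card ≤ p ^ n := by
    rw [← h4]
    refine le_trans (Finset.card_le_card ?_) ((Multiset.toFinset_card_le _).trans (Polynomial.card_roots' _))
    intro t _
    rw [Multiset.mem_toFinset, Polynomial.mem_roots h3, Polynomial.IsRoot.def]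
    simp [h1 t]
  rw [Finset.card_univ, h2, pow_two] at h5
  nlinarith

/-- an element of trace one -/
theorem exists_half : ∃ w : K, w + star w = 1 := by
  obtain ⟨t, ht⟩ := exists_star_ne hK
  have h1 : ∃ w : K, w + star w ≠ 0 := by
    by_contra hcon
    push Not at hcon
    have h2 := hcon 1
    have h3 := hcon t
    rw [star_one] at h2
    apply ht
    linear_combination h3 - t * h2
  obtain ⟨w, hw⟩ := h1
  refine ⟨w * (w + star w)⁻¹, ?_⟩
  rw [star_mul', star_inv₀, star_add, star_star, add_comm (star w) w, ← add_mul, mul_inv_cancel₀ hw]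

/-- `ρ ↦ (b ↦ star ρ b - ρ star b)` has trivial kernel -/
theorem eq_zero_of_comm {ρ : K} (h : ∀ b : K, star ρ * b = ρ * star b) : ρ = 0 := by
  obtain ⟨t, ht⟩ := exists_star_ne hK
  have h1 := h 1
  rw [star_one, mul_one, mul_one] at h1
  have h2 := h t
  rw [h1] at h2
  by_contra h3
  exact ht (mul_left_cancel₀ h3 h2).symm

end field

/-! ### Commutators -/

theorem comm_iff {x y : UG K} : x * y = y * x ↔
    x.r * y.u2 = y.r * x.u2 ∧
    x.r * y.d + star x.r * y.b + x.r * star x.r * y.c - x.u1 * (star y.u1 + star x.r * star y.u2) =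
      y.r * x.d + star y.r * x.b + y.r * star y.r * x.c - y.u1 * (star x.u1 + star y.r * star x.u2) ∧
    x.r * y.c - x.u1 * star y.u2 = y.r * x.c - y.u1 * star x.u2 ∧
    x.u2 * star y.u2 = y.u2 * star x.u2 := by
  rw [UG.ext_iff]
  simp only [mul_r, mul_u1, mul_u2, mul_a, mul_b, mul_c]
  constructor
  · rintro ⟨-, h1, -, h2, h3, h4⟩
    refine ⟨?_, ?_, ?_, ?_⟩
    · linear_combination h1
    · linear_combination h2
    · linear_combination h3
    · linear_combination -h4
  · rintro ⟨h1, h2, h3, h4⟩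
    refine ⟨add_comm _ _, ?_, add_comm _ _, ?_, ?_, ?_⟩
    · linear_combination h1
    · linear_combination h2
    · linear_combination h3
    · linear_combination -h4

/-- the element of `Z₂` with given `b` -/
def zb (b : K) : UG K :=
  { r := 0, u1 := 0, u2 := 0, a := 0, b := b, c := 0, ha := by simp, hc := by simp }

theorem zb_mem (b : K) : zb b ∈ Z2 K := ⟨rfl, rfl, rfl, rfl⟩

/-- `C_S(Z₂) ≤ Q₂` -/
theorem mem_Q2_of_comm {p n : ℕ} (hK : HypK K p n) {x : UG K} (h : ∀ z ∈ Z2 K, x * z = z * x) : x ∈ Q2 K := by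
  refine eq_zero_of_comm hK fun b => ?_
  have h1 := (comm_iff.1 (h (zb b) (zb_mem b))).2.1
  simp only [zb, d, star_zero] at h1
  linear_combination h1

/-- `Q₂ ≤ C_S(Z₂)` -/
theorem comm_of_mem_Q2 {x z : UG K} (hx : x ∈ Q2 K) (hz : z ∈ Z2 K) : x * z = z * x := by
  have hx' : x.r = 0 := hx
  obtain ⟨h1, h2, h3, h4⟩ := hz
  rw [comm_iff]
  simp [hx', h1, h2, h3, h4]

/-- an element of `Y` with given `u1` -/
def yt (w : K) (hw : w + star w = 1) (t : K) : UG K :=
  { r := 0, u1 := t, u2 := 0, a := - (w * (t * star t)), b := 0, c := 0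
    ha := by
      rw [star_neg, star_mul', star_mul', star_star, mul_comm (star t) t]
      linear_combination (- (t * star t)) * hw
    hc := by simp }

theorem yt_mem (w : K) (hw : w + star w = 1) (t : K) : yt w hw t ∈ YY K := ⟨rfl, rfl⟩

/-- `C_{Q₂}(Y) ≤ V` -/
theorem mem_VV_of_comm {p n : ℕ} (hK : HypK K p n) {x : UG K} (hx : x ∈ Q2 K) (h : ∀ y ∈ YY K, x * y = y * x) :
    x ∈ VV K := by
  obtain ⟨w, hw⟩ := exists_half hK
  have hx' : x.r = 0 := hx
  have h1 : x.u2 = 0 := by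
    have h2 := (comm_iff.1 (h _ (yt_mem w hw 1))).2.2.1
    simp only [yt, hx', star_zero] at h2
    rw [← star_eq_zero]
    linear_combination h2
  refine ⟨hx', eq_zero_of_comm hK fun t => ?_, h1⟩
  have h2 := (comm_iff.1 (h _ (yt_mem w hw t))).2.1
  simp only [yt, hx', h1, d, star_zero] at h2
  linear_combination h2

/-- `V` centralizes `Q₂` -/
theorem comm_of_mem_VV {x v : UG K} (hx : x ∈ Q2 K) (hv : v ∈ VV K) : x * v = v * x := by
  have hx' : x.r = 0 := hx
  obtain ⟨h1, h2, h3⟩ := hv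
  rw [comm_iff]
  simp [hx', h1, h2, h3]

theorem com_r (x y : UG K) : (x * y * x⁻¹ * y⁻¹).r = 0 := by
  simp only [mul_r, inv_r]; ring

theorem com_u2 (x y : UG K) : (x * y * x⁻¹ * y⁻¹).u2 = 0 := by
  simp only [mul_u2, inv_u2]; ring

theorem com_u1 (x y : UG K) : (x * y * x⁻¹ * y⁻¹).u1 = x.r * y.u2 - y.r * x.u2 := by
  simp only [mul_r, mul_u1, inv_u1, inv_u2, inv_r]; ring

/-- `S' ≤ Y` -/
theorem com_mem_YY (x y : UG K) : x * y * x⁻¹ * y⁻¹ ∈ YY K := ⟨com_r x y, com_u2 x y⟩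

/-- `Q₂' ≤ V` -/
theorem com_mem_VV {x y : UG K} (hx : x ∈ Q2 K) (hy : y ∈ Q2 K) : x * y * x⁻¹ * y⁻¹ ∈ VV K := by
  have hx' : x.r = 0 := hx
  have hy' : y.r = 0 := hy
  refine ⟨com_r x y, ?_, com_u2 x y⟩
  rw [com_u1, hx', hy', zero_mul, zero_mul, sub_zero]

theorem VV_le_Q2 : VV K ≤ Q2 K := fun _ h => h.1

theorem VV_le_YY : VV K ≤ YY K := fun _ h => ⟨h.1, h.2.2⟩

theorem YY_le_Q2 : YY K ≤ Q2 K := fun _ h => h.1

theorem Z2_le_YY : Z2 K ≤ YY K := fun _ h => ⟨h.1, h.2.2.1⟩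

end Cfsg.Agent.H699.PU
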