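import Cfsg.Agent.H699.PU.Coord
import Cfsg.Agent.H732.PU.Chain

/-!
# S5258: StE3e (helper699)
-/

set_option autoImplicit false

namespace Cfsg.Agent.H699.PU

open Cfsg Cfsg.FusionSystem Cfsg.Agent.H756.PU Cfsg.Agent.H756.PU.UG

universe u

section

variable {Ω : Type*} [Group Ω] {E : Subgroup Ω} {Γ : Subgroup (MulAut E)}

/-- the centraliser of an invariant subgroup is invariant -/
theorem inv_cent {M C : Subgroup Ω} (hM : Inv Γ M)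
    (hC : ∀ x, x ∈ C ↔ x ∈ E ∧ ∀ m ∈ M, x * m = m * x) : Inv Γ C := by
  refine ⟨fun x hx => ((hC x).1 hx).1, fun γ hγ e he => (hC _).2 ⟨(γ e).2, fun m hm => ?_⟩⟩
  have h1 := ((hC _).1 he).2
  let m' : E := ⟨m, hM.1 hm⟩
  have h2 : ((γ⁻¹ m' : E) : Ω) ∈ M := hM.2 γ⁻¹ (Γ.inv_mem hγ) m' hm
  have h3 : e * (γ⁻¹ m') = (γ⁻¹ m') * e := Subtype.ext (h1 _ h2)
  have h4 := congrArg γ h3
  rw [map_mul, map_mul, MulAut.apply_inv_self] at h4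
  exact congrArg Subtype.val h4

/-- the centre of an invariant subgroup is invariant -/
theorem inv_center {M C : Subgroup Ω} (hM : Inv Γ M)
    (hC : ∀ x, x ∈ C ↔ x ∈ M ∧ ∀ m ∈ M, x * m = m * x) : Inv Γ C := by
  refine ⟨fun x hx => hM.1 ((hC x).1 hx).1, fun γ hγ e he => (hC _).2 ⟨hM.2 γ hγ e ((hC _).1 he).1, fun m hm => ?_⟩⟩
  have h1 := ((hC _).1 he).2
  let m' : E := ⟨m, hM.1 hm⟩
  have h2 : ((γ⁻¹ m' : E) : Ω) ∈ M := hM.2 γ⁻¹ (Γ.inv_mem hγ) m' hm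
  have h3 : e * (γ⁻¹ m') = (γ⁻¹ m') * e := Subtype.ext (h1 _ h2)
  have h4 := congrArg γ h3
  rw [map_mul, map_mul, MulAut.apply_inv_self] at h4
  exact congrArg Subtype.val h4

theorem inv_self : Inv Γ E := ⟨le_rfl, fun _ _ _ _ => Subtype.property _⟩

end

/-- (E3e) -/
theorem stE3e : StE3e.{u} := by
  intro K _ _ p n hK E Γ hE hYE hZ2
  -- `E ∩ Q₂ = C_E(Z₂)`
  have hC : Inv Γ (E ⊓ Q2 K) := by
    refine inv_cent hZ2 fun x => ⟨fun hx => ⟨hx.1, fun m hm => comm_of_mem_Q2 hx.2 hm⟩, fun hx =>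
      ⟨hx.1, mem_Q2_of_comm hK hx.2⟩⟩
  -- `V = Z(E ∩ Q₂)`
  have hV : Inv Γ (VV K) := by
    refine inv_center hC fun x => ⟨fun hx => ⟨⟨hYE (VV_le_YY hx), VV_le_Q2 hx⟩, fun m hm =>
      (comm_of_mem_VV hm.2 hx).symm⟩, fun hx => mem_VV_of_comm hK hx.1.2 fun y hy =>
      hx.2 y ⟨hYE hy, YY_le_Q2 hy⟩⟩
  have hQE : Q2 K ≤ E := by
    refine Cfsg.Agent.H732.PU.stChain hE (VV K) (E ⊓ Q2 K) E hV hC inv_self
      (le_inf (VV_le_YY.trans hYE) VV_le_Q2) inf_le_left (Q2 K) le_top ?_ ?_ ?_ ?_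
    · intro x hx e he
      exact hYE (com_mem_YY x e)
    · intro x hx e he
      refine ⟨hYE (com_mem_YY x e), YY_le_Q2 (com_mem_YY x e)⟩
    · intro x hx e he
      exact com_mem_VV hx he.2
    · intro x hx v hv
      exact comm_of_mem_VV hx hv
  refine ⟨hQE, ?_⟩
  rwa [inf_eq_right.2 hQE] at hC

end Cfsg.Agent.H699.PU
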