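import Cfsg.Agent.H699.PU.E3e

/-!
# S5258: StE3f (helper699)

`le_Q1_of_comm` : a subgroup `B` of order `|Q₁|` with `B' ≤ Z` is contained in `Q₁`.
-/

set_option autoImplicit false

namespace Cfsg.Agent.H699.PU

open Cfsg Cfsg.FusionSystem Cfsg.Agent.H756.PU Cfsg.Agent.H756.PU.UG

universe u

variable {K : Type u} [Field K] [StarRing K]

/-- the elements of trace zero -/
def T0 (K : Type u) [Field K] [StarRing K] : AddSubgroup K where
  carrier := {a | a + star a = 0}
  zero_mem' := by simp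
  add_mem' := by
    intro a b ha hb
    have ha' : a + star a = 0 := ha
    have hb' : b + star b = 0 := hb
    show a + b + star (a + b) = 0
    rw [star_add]
    linear_combination ha' + hb'
  neg_mem' := by
    intro a ha
    have ha' : a + star a = 0 := ha
    show -a + star (-a) = 0
    rw [star_neg]
    linear_combination -ha'

theorem mem_T0 {a : K} : a ∈ T0 K ↔ a + star a = 0 := Iff.rfl

theorem add_half_mem {w : K} (hw : w + star w = 1) {a t : K} (h : a + star a + t * star t = 0) :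
    a + w * (t * star t) ∈ T0 K := by
  rw [mem_T0, star_add, star_mul', star_mul', star_star, mul_comm (star t) t]
  linear_combination h + (t * star t) * hw

section card

variable {p n : ℕ} (hK : HypK K p n)

include hK

theorem card_T0_lt : Nat.card (T0 K) < Nat.card K := by
  have := hK.fin
  obtain ⟨w, hw⟩ := exists_half hK
  have h1 : (T0 K) ≠ ⊤ := by
    intro h
    have h2 : w ∈ T0 K := by rw [h]; trivial
    rw [mem_T0, hw] at h2
    exact one_ne_zero h2
  have h2 := AddSubgroup.card_mul_index (T0 K)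
  have h3 : (T0 K).index ≠ 1 := fun h => h1 (AddSubgroup.index_eq_one.1 h)
  have h4 : (T0 K).index ≠ 0 := AddSubgroup.index_ne_zero_of_finite
  have h5 : 0 < Nat.card (T0 K) := Nat.card_pos
  have h6 : 2 ≤ (T0 K).index := by omega
  nlinarith

/-- `|S| ≤ |K|⁴ |T₀|²` -/
theorem card_S_le : Nat.card (UG K) ≤ Nat.card K ^ 4 * Nat.card (T0 K) ^ 2 := by
  have := hK.fin
  obtain ⟨w, hw⟩ := exists_half hK
  have h1 : Nat.card (UG K) ≤ Nat.card ((K × K × K × K) × (T0 K × T0 K)) := by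
    refine Nat.card_le_card_of_injective (fun g : UG K => ((g.r, g.u1, g.u2, g.b),
      (⟨_, add_half_mem hw g.ha⟩, ⟨_, add_half_mem hw g.hc⟩))) ?_
    intro g h hgh
    simp only [Prod.mk.injEq, Subtype.mk.injEq] at hgh
    obtain ⟨⟨h1, h2, h3, h4⟩, h5, h6⟩ := hgh
    ext
    · exact h1
    · exact h2
    · exact h3
    · rw [h2] at h5
      exact add_right_cancel h5
    · exact h4
    · rw [h3] at h6
      exact add_right_cancel h6
  refine h1.trans (le_of_eq ?_)
  simp only [Nat.card_prod]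
  ring

/-- `|Z₂| ≤ |K| |T₀|` -/
theorem card_Z2_le : Nat.card (Z2 K) ≤ Nat.card K * Nat.card (T0 K) := by
  have := hK.fin
  rw [← Nat.card_prod]
  refine Nat.card_le_card_of_injective (fun g : Z2 K => ((g : UG K).b, (⟨(g : UG K).a, by
    have h1 := (g : UG K).ha
    obtain ⟨h2, h3, h4, h5⟩ := g.2
    rw [h3, zero_mul, add_zero] at h1
    exact h1⟩ : T0 K))) ?_
  rintro ⟨g, g1, g2, g3, g4⟩ ⟨h, h1, h2, h3, h4⟩ hgh
  simp only [Prod.mk.injEq, Subtype.mk.injEq] at hgh
  apply Subtype.ext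
  ext
  · exact g1.trans h1.symm
  · exact g2.trans h2.symm
  · exact g3.trans h3.symm
  · exact hgh.2
  · exact hgh.1
  · exact g4.trans h4.symm

/-- `|Y₁| ≤ |K|² |T₀|` -/
theorem card_Y1_le : Nat.card (Y1 K) ≤ Nat.card K ^ 2 * Nat.card (T0 K) := by
  have := hK.fin
  obtain ⟨w, hw⟩ := exists_half hK
  have h1 : Nat.card (Y1 K) ≤ Nat.card ((K × K) × T0 K) := by
    refine Nat.card_le_card_of_injective (fun g : Y1 K => (((g : UG K).u1, (g : UG K).b),
      ⟨_, add_half_mem hw (g : UG K).ha⟩)) ?_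
    rintro ⟨g, ⟨g1, g2⟩, g3⟩ ⟨h, ⟨h1, h2⟩, h3⟩ hgh
    simp only [Prod.mk.injEq, Subtype.mk.injEq] at hgh
    obtain ⟨⟨k1, k2⟩, k3⟩ := hgh
    have g3' : g.r = 0 := g3
    have h3' : h.r = 0 := h3
    apply Subtype.ext
    ext
    · exact g3'.trans h3'.symm
    · exact k1
    · exact g1.trans h1.symm
    · rw [k1] at k3
      exact add_right_cancel k3
    · exact k2
    · exact g2.trans h2.symm
  refine h1.trans (le_of_eq ?_)
  simp only [Nat.card_prod]
  ring

/-- `|Q₁ V| ≤ |K|³ |T₀|²` -/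
theorem card_QV_le : Nat.card (QV K) ≤ Nat.card K ^ 3 * Nat.card (T0 K) ^ 2 := by
  have := hK.fin
  obtain ⟨w, hw⟩ := exists_half hK
  have h1 : Nat.card (QV K) ≤ Nat.card ((K × K × K) × (T0 K × T0 K)) := by
    refine Nat.card_le_card_of_injective (fun g : QV K => (((g : UG K).r, (g : UG K).u1, (g : UG K).b),
      (⟨_, add_half_mem hw (g : UG K).ha⟩, ⟨_, add_half_mem hw (g : UG K).hc⟩))) ?_
    rintro ⟨g, g1⟩ ⟨h, h1⟩ hgh
    simp only [Prod.mk.injEq, Subtype.mk.injEq] at hgh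
    obtain ⟨⟨k1, k2, k3⟩, k4, k5⟩ := hgh
    have g1' : g.u2 = 0 := g1
    have h1' : h.u2 = 0 := h1
    apply Subtype.ext
    ext
    · exact k1
    · exact k2
    · exact g1'.trans h1'.symm
    · rw [k2] at k4
      exact add_right_cancel k4
    · exact k3
    · rw [g1', h1'] at k5
      exact add_right_cancel k5
  refine h1.trans (le_of_eq ?_)
  simp only [Nat.card_prod]
  ring

omit hK in
/-- an element of `Q₁` with given coordinates -/
def q1elt (w : K) (hw : w + star w = 1) (r u b : K) (a : T0 K) : UG K :=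
  { r := r
    u1 := u
    u2 := 0
    a := a - w * (u * star u)
    b := b
    c := 0
    ha := by
      have h2 := mem_T0.1 a.2
      rw [star_sub, star_mul', star_mul', star_star, mul_comm (star u) u]
      linear_combination h2 - (u * star u) * hw
    hc := by simp }

/-- `|Q₁| ≥ |K|³ |T₀|` -/
theorem le_card_Q1 [Finite (UG K)] : Nat.card K ^ 3 * Nat.card (T0 K) ≤ Nat.card (Q1 K) := by
  have := hK.fin
  obtain ⟨w, hw⟩ := exists_half hK
  have h1 : Nat.card ((K × K × K) × T0 K) ≤ Nat.card (Q1 K) := by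
    refine Nat.card_le_card_of_injective (fun x : (K × K × K) × T0 K =>
      (⟨q1elt w hw x.1.1 x.1.2.1 x.1.2.2 x.2, rfl, rfl⟩ : Q1 K)) ?_
    rintro ⟨⟨r, u, b⟩, a⟩ ⟨⟨r', u', b'⟩, a'⟩ h
    simp only [Subtype.mk.injEq, q1elt, UG.mk.injEq] at h
    obtain ⟨k1, k2, -, k3, k4, -⟩ := h
    subst k1 k2 k4
    have : (a : K) = a' := by
      have := sub_left_inj.1 k3
      exact this
    rw [Subtype.ext this]
  refine le_trans (le_of_eq ?_) h1
  simp only [Nat.card_prod]
  ring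

end card

theorem finite_UG {p n : ℕ} (hK : HypK K p n) : Finite (UG K) := by
  have := hK.fin
  refine Finite.of_injective (fun g : UG K => (g.r, g.u1, g.u2, g.a, g.b, g.c)) ?_
  intro g h hgh
  simp only [Prod.mk.injEq] at hgh
  obtain ⟨h1, h2, h3, h4, h5, h6⟩ := hgh
  ext <;> assumption

/-- the count -/
theorem false_of_card {G : Type*} [Group G] [Finite G] {B Q X T : Subgroup G} (hB : Nat.card B = Nat.card Q)
    (hBX : B ≤ X) (hQX : Q ≤ X) (hT : B ⊓ Q ≤ T) (h : Nat.card X * Nat.card T < Nat.card Q ^ 2) : False := by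
  have h1 : Nat.card (B ⊓ Q : Subgroup G) * (B ⊓ Q).relIndex B = Nat.card B := by
    rw [← Subgroup.relIndex_bot_left, ← Subgroup.relIndex_bot_left (H := B)]
    exact Subgroup.relIndex_mul_relIndex _ _ _ bot_le inf_le_left
  have h2 : Nat.card Q * Q.relIndex X = Nat.card X := by
    rw [← Subgroup.relIndex_bot_left, ← Subgroup.relIndex_bot_left (H := X)]
    exact Subgroup.relIndex_mul_relIndex _ _ _ bot_le hQX
  have h3 : (B ⊓ Q).relIndex B ≤ Q.relIndex X := by
    rw [Subgroup.inf_relIndex_left]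
    exact Subgroup.relIndex_le_of_le_right hBX (by
      rw [Subgroup.relIndex]
      exact Subgroup.FiniteIndex.index_ne_zero)
  have h4 : Nat.card (B ⊓ Q : Subgroup G) ≤ Nat.card T := Subgroup.card_le_of_le hT
  have h5 : Nat.card B * Nat.card Q ≤ Nat.card X * Nat.card T := by
    calc Nat.card B * Nat.card Q = Nat.card (B ⊓ Q : Subgroup G) * ((B ⊓ Q).relIndex B * Nat.card Q) := by
          rw [← h1]; ring
      _ ≤ Nat.card T * (Q.relIndex X * Nat.card Q) := Nat.mul_le_mul h4 (Nat.mul_le_mul_right _ h3)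
      _ = Nat.card X * Nat.card T := by rw [← h2]; ring
  rw [hB, ← pow_two] at h5
  omega

/-- a subgroup of order `|Q₁|` which is abelian modulo `Z` is contained in `Q₁` -/
theorem le_Q1_of_comm {p n : ℕ} (hK : HypK K p n) {B : Subgroup (UG K)} (hB : Nat.card B = Nat.card (Q1 K))
    (hc : ∀ x ∈ B, ∀ y ∈ B, x * y * x⁻¹ * y⁻¹ ∈ ZS K) : B ≤ Q1 K := by
  have hfin := finite_UG hK
  have hKf := hK.fin
  by_contra hcon
  -- commutators modulo `Z`
  have hcc : ∀ x ∈ B, ∀ y ∈ B, x.r * y.u2 = y.r * x.u2 ∧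
      x.r * y.c - x.u1 * star y.u2 = y.r * x.c - y.u1 * star x.u2 := by
    intro x hx y hy
    obtain ⟨h1, h2, h3, h4, h5⟩ := hc x hx y hy
    have h6 : x * y = (x * y * x⁻¹ * y⁻¹) * (y * x) := by group
    have h7 : (x * y).u1 = (y * x).u1 := by
      conv_lhs => rw [h6]
      rw [mul_u1, h2, h1, zero_add, zero_mul, add_zero]
    have h8 : (x * y).b = (y * x).b := by
      conv_lhs => rw [h6]
      rw [mul_b, h4, h1, h2, zero_add, zero_mul, zero_mul, add_zero, sub_zero]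
    rw [mul_u1, mul_u1] at h7
    rw [mul_b, mul_b] at h8
    exact ⟨by linear_combination h7, by linear_combination h8⟩
  set k := Nat.card K with hk
  set t := Nat.card (T0 K) with ht
  have htk : t < k := card_T0_lt hK
  have ht0 : 0 < t := Nat.card_pos
  have hk0 : 0 < k := by omega
  have hQ : k ^ 3 * t ≤ Nat.card (Q1 K) := le_card_Q1 hK
  have hQ2 : (k ^ 3 * t) ^ 2 ≤ Nat.card (Q1 K) ^ 2 := Nat.pow_le_pow_left hQ 2
  have hfinal : k ^ 5 * t ^ 3 < (k ^ 3 * t) ^ 2 := by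
    have h1 : (k ^ 3 * t) ^ 2 = k ^ 5 * t ^ 2 * k := by ring
    have h2 : k ^ 5 * t ^ 3 = k ^ 5 * t ^ 2 * t := by ring
    rw [h1, h2]
    exact Nat.mul_lt_mul_of_pos_left htk (by positivity)
  by_cases hA : ∃ x ∈ B, x.u2 ≠ 0
  · obtain ⟨x, hx, hxu⟩ := hA
    refine false_of_card (X := ⊤) (T := Z2 K) hB le_top le_top ?_ ?_
    · intro y hy
      obtain ⟨h1, h2⟩ := hcc x hx y hy.1
      obtain ⟨hy2, hyc⟩ := hy.2
      rw [hy2, mul_zero] at h1
      rw [hy2, hyc, star_zero, mul_zero, mul_zero, sub_zero] at h2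
      have h3 : y.r = 0 := (mul_eq_zero.1 h1.symm).resolve_right hxu
      rw [h3, zero_mul, zero_sub, zero_eq_neg, mul_eq_zero, star_eq_zero] at h2
      exact ⟨h3, h2.resolve_right hxu, hy2, hyc⟩
    · rw [Subgroup.card_top]
      calc Nat.card (UG K) * Nat.card (Z2 K) ≤ (k ^ 4 * t ^ 2) * (k * t) :=
            Nat.mul_le_mul (card_S_le hK) (card_Z2_le hK)
        _ = k ^ 5 * t ^ 3 := by ring
        _ < _ := hfinal
        _ ≤ _ := hQ2
  · push Not at hA
    obtain ⟨x, hx, hxQ⟩ : ∃ x ∈ B, x ∉ Q1 K := by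
      by_contra h
      push Not at h
      exact hcon h
    have hxc : x.c ≠ 0 := fun h => hxQ ⟨hA x hx, h⟩
    refine false_of_card (X := QV K) (T := Y1 K) hB (fun y hy => hA y hy) (fun y hy => hy.1) ?_ ?_
    · intro y hy
      obtain ⟨h1, h2⟩ := hcc x hx y hy.1
      obtain ⟨hy2, hyc⟩ := hy.2
      rw [hy2, hyc, hA x hx, star_zero, mul_zero, mul_zero, mul_zero, sub_zero, sub_zero] at h2
      exact ⟨hy.2, (mul_eq_zero.1 h2.symm).resolve_right hxc⟩
    · calc Nat.card (QV K) * Nat.card (Y1 K) ≤ (k ^ 3 * t ^ 2) * (k ^ 2 * t) :=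
            Nat.mul_le_mul (card_QV_le hK) (card_Y1_le hK)
        _ = k ^ 5 * t ^ 3 := by ring
        _ < _ := hfinal
        _ ≤ _ := hQ2

/-- `Q₁' ≤ Z` -/
theorem com_mem_ZS {x y : UG K} (hx : x ∈ Q1 K) (hy : y ∈ Q1 K) : x * y * x⁻¹ * y⁻¹ ∈ ZS K := by
  obtain ⟨h1, h2⟩ := hx
  obtain ⟨h3, h4⟩ := hy
  refine ⟨com_r x y, ?_, com_u2 x y, ?_, ?_⟩
  · rw [com_u1, h1, h3, mul_zero, mul_zero, sub_zero]
  · simp only [mul_b, mul_r, mul_u1, inv_b, inv_u2, inv_c, d, h1, h2, h3, h4]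
    simp
  · simp [h1, h2, h3, h4]

/-- (E3f) -/
theorem stE3f : StE3f.{u} := by
  intro K _ _ p n hK E Γ hE hZ hQE
  have hfin := finite_UG hK
  refine ⟨hQE, fun γ hγ e he => ?_⟩
  set B : Subgroup (UG K) := (((Q1 K).subgroupOf E).map γ.toMonoidHom).map E.subtype with hB
  have h1 : Nat.card B = Nat.card (Q1 K) := by
    rw [hB, Subgroup.card_map_of_injective E.subtype_injective,
      Subgroup.card_map_of_injective (f := γ.toMonoidHom) γ.injective]
    exact Nat.card_congr (Subgroup.subgroupOfEquivOfLe hQE).toEquiv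
  have h2 : B ≤ Q1 K := by
    refine le_Q1_of_comm hK h1 ?_
    rintro _ ⟨_, ⟨x, hx, rfl⟩, rfl⟩ _ ⟨_, ⟨y, hy, rfl⟩, rfl⟩
    have h3 : ((x * y * x⁻¹ * y⁻¹ : E) : UG K) ∈ ZS K := com_mem_ZS hx hy
    have h4 := hZ.2 γ hγ _ h3
    rw [map_mul, map_mul, map_mul, map_inv, map_inv] at h4
    exact h4
  exact h2 ⟨γ e, ⟨e, he, rfl⟩, rfl⟩

end Cfsg.Agent.H699.PU
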